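import Groth.Agent.Fano.K398.ConAlg
import Groth.Agent.Fano.K123.Van
import Groth.Agent.Fano.K188.LinFun

/-!
# Base point freeness of the sections `msec` on a plane conic (CON-D, node K6)

* `van_qf`: the equation of a conic vanishes at its sections;
* `exists_pt`: points of a conic with given coordinates;
* `gens_msec_iff`: the sections `msec` generate iff `bpf` does not vanish at any point of the base.
-/

set_option autoImplicit false

universe u

open CategoryTheory CategoryTheory.Limits AlgebraicGeometry TopologicalSpace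

namespace K398.ConGen

open K390.PnSec Groth.Agent.Fdesc.LocGen Groth.Agent.Dix.ProjProper
open Groth.Agent.Ega2.H295.PnUniq Groth.Agent.Ega2.H295.PnCoord
open K188.LineDef K188.MapP1 K188.LinFun K745.ConDef K398.ConAlg K123.Van

variable {T C Y : Scheme.{u}} {c : Fin 5 → Γ(T, ⊤)} {f : C ⟶ T} {L : C.Modules} {x : Fin 3 → Γ(L, ⊤)} {n : ℕ}

theorem isInvertible_of_iso {X : Scheme.{u}} {L L' : X.Modules} (e : L ≅ L') (h : PicF.IsInvertible L) :
    PicF.IsInvertible L' := by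
  rw [isInvertible_iff] at h ⊢
  intro x
  obtain ⟨U, s, hx, hs⟩ := h x
  exact ⟨U, e.hom.app U s, hx, hs.app e.hom⟩

theorem isInvertible_of_isCon (h : IsCon c f L x) : PicF.IsInvertible L := by
  obtain ⟨ι, -, ⟨τ, -⟩, -⟩ := h
  exact isInvertible_of_iso τ (isInvertible_pullback _ (isInvertible_O1 2 Z.{u}))

theorem gens_of_isCon (h : IsCon c f L x) : Gens x := by
  obtain ⟨ι, -, hg, -⟩ := h
  exact hg.iSup_genLocus

/-- The coordinates of a morphism to the projective plane over `T`. -/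
theorem van_crd_iff (r : Y ⟶ P2 T) {M : Y.Modules} {y : Fin 3 → Γ(M, ⊤)} (h : GivenBy (r ≫ toZ 2 T) M y)
    (F : MvPolynomial (Fin 3) Γ(T, ⊤)) :
    Van (r ≫ pr2 T) (fun i => pullTop r (crd 2 T i)) F ↔ Van (r ≫ pr2 T) y F := by
  obtain ⟨e, he⟩ := ((GivenBy.refl (toZ 2 T)).comp r).exists_iso h
  exact van_iso_iff e he

/-- The equation of a conic vanishes at its sections. -/
theorem van_qf (h : IsCon c f L x) : Van f x (qf c) := by
  obtain ⟨ι, hf, hg, hz⟩ := h
  have h1 := (hz.exists_iff ι).1 ⟨𝟙 C, Category.id_comp ι⟩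
  rw [van_crd_iff ι hg, hf] at h1
  exact h1

theorem gl_pullTop {X : Scheme.{u}} (r : Y ⟶ X) {M : X.Modules} (hM : PicF.IsInvertible M) (s : Γ(M, ⊤)) :
    gl (pullTop r s) = r ⁻¹ᵁ gl s := genLocus_pullTop r hM s

theorem gl_app {X : Scheme.{u}} {M M' : X.Modules} (e : M ≅ M') (s : Γ(M, ⊤)) : gl (e.hom.app ⊤ s) = gl s :=
  genLocus_app e s

theorem gl_zero {X : Scheme.{u}} {M : X.Modules} (y : X) : y ∉ gl (0 : Γ(M, ⊤)) := by
  intro hy
  have h1 := isGen_res_gl (0 : Γ(M, ⊤))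
  rw [map_zero] at h1
  have h2 : (1 : Γ(X, gl (0 : Γ(M, ⊤)))) = 0 := h1.ext (by rw [smul_zero, smul_zero])
  have h3 : (X.presheaf.germ _ y hy).hom 1 = (X.presheaf.germ _ y hy).hom 0 := by rw [h2]
  rw [map_one, map_zero] at h3
  exact one_ne_zero h3

/-- A point of a conic with given coordinates. -/
theorem exists_pt (h : IsCon c f L x) (s : Y ⟶ T) (v : Fin 3 → Γ(Y, ⊤)) (j : Fin 3) (hj : IsUnit (v j))
    (hv : MvPolynomial.eval₂ s.appTop.hom v (qf c) = 0) :
    ∃ r : Y ⟶ C, r ≫ f = s ∧ ∃ e : (Scheme.Modules.pullback r).obj L ≅ Coh.structureModule Y,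
      ∀ i, e.hom.app ⊤ (pullTop r (x i)) = ofFun (v i) := by
  obtain ⟨ι, hf, hg, hz⟩ := h
  have hcov : ⨆ i, gl (ofFun (v i) : Γ(Coh.structureModule Y, ⊤)) = ⊤ := by
    rw [eq_top_iff]
    refine le_trans ?_ (le_iSup _ j)
    rw [le_gl_iff, res_refl, ofFun_eq_smul]
    exact (isGen_one ⊤).unit_smul hj
  obtain ⟨r0, hr0⟩ := exists_givenBy' (n := 2) (M := Coh.structureModule Y) (fun i => ofFun (v i)) hcov
  have h1 : liftP r0 s ≫ toZ 2 T = r0 := liftP_toZ _ _
  have h2 : liftP r0 s ≫ pr2 T = s := liftP_toBase _ _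
  have h3 : GivenBy (liftP r0 s ≫ toZ 2 T) (Coh.structureModule Y) (fun i => ofFun (v i)) := by rw [h1]; exact hr0
  have h4 : Van s (fun i => (ofFun (v i) : Γ(Coh.structureModule Y, ⊤))) (qf c) := by
    refine van_of_cover (isHomogeneous_qf c) fun t => ?_
    refine ⟨⊤, trivial, one ⊤, v, isGen_one ⊤, fun i => ?_, ?_⟩
    · rw [res_refl, ← ofFun_eq_smul]
    · have h5 : ρV s ⊤ = s.appTop.hom := by
        ext a
        exact ores_refl _
      rw [h5]
      exact hv
  have h6 := (van_crd_iff (liftP r0 s) h3 (qf c)).2 (by rw [h2]; exact h4)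
  obtain ⟨r, hr⟩ := (hz.exists_iff _).2 h6
  refine ⟨r, ?_, ?_⟩
  · rw [← hf, ← Category.assoc, hr, h2]
  · have h7 := hg.comp r
    rw [← Category.assoc, hr, h1] at h7
    obtain ⟨e, he⟩ := h7.exists_iso hr0
    exact ⟨e, he⟩

theorem pullTop_msec (r : Y ⟶ C) (φ : Fin (n + 1) → Fin 3 → Γ(T, ⊤)) (l : Fin (n + 1)) :
    pullTop r (msec f x φ l) = msec (r ≫ f) (fun i => pullTop r (x i)) φ l := by
  unfold msec
  rw [pullTop_sum_smul]
  refine Finset.sum_congr rfl fun i _ => ?_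
  rw [Scheme.Hom.comp_appTop]
  rfl

theorem app_msec {L' : C.Modules} (e : L ⟶ L') (φ : Fin (n + 1) → Fin 3 → Γ(T, ⊤)) (l : Fin (n + 1)) :
    e.app ⊤ (msec f x φ l) = msec f (fun i => e.app ⊤ (x i)) φ l :=
  app_sum_smul e _ _

/-- The locus where a section `msec` generates, on a chart. -/
theorem mem_gl_msec_iff {V : C.Opens} {e : Γ(L, V)} (he : IsGen e) {a : Fin 3 → Γ(C, V)}
    (ha : ∀ i, res L le_top (x i) = a i • e) (φ : Fin (n + 1) → Fin 3 → Γ(T, ⊤)) (l : Fin (n + 1)) {y : C}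
    (hy : y ∈ V) : y ∈ gl (msec f x φ l) ↔
      ∑ i, C.evaluation V y hy (ρV f V (φ l i)) * C.evaluation V y hy (a i) ≠ 0 := by
  have h1 : res L (le_top : V ≤ ⊤) (msec f x φ l) = (∑ i, ρV f V (φ l i) * a i) • e := by
    unfold msec
    rw [map_sum, Finset.sum_smul]
    refine Finset.sum_congr rfl fun i _ => ?_
    rw [res_smul, ha i, smul_smul]
    rfl
  rw [mem_gl_iff he h1 hy, ← Scheme.evaluation_ne_zero_iff_mem_basicOpen _ y hy, map_sum]
  simp only [map_mul]

/-- The evaluation of a function of the base. -/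
theorem evaluation_ρV_ne_zero_iff (V : C.Opens) (y : C) (hy : y ∈ V) (b : Γ(T, ⊤)) :
    C.evaluation V y hy (ρV f V b) ≠ 0 ↔ f y ∈ T.basicOpen b := by
  rw [Scheme.evaluation_ne_zero_iff_mem_basicOpen]
  have h1 : C.basicOpen (ρV f V b) = V ⊓ f ⁻¹ᵁ T.basicOpen b := by
    change C.basicOpen (ores le_top (f.appTop b)) = _
    rw [Scheme.preimage_basicOpen]
    exact Scheme.basicOpen_res _ _ _
  rw [h1]
  exact ⟨fun h => h.2, fun h => ⟨hy, h⟩⟩

theorem gens_of_bpf (h : IsCon c f L x) (φ : Fin (n + 1) → Fin 3 → Γ(T, ⊤))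
    (hb : ⨆ i, T.basicOpen (bpf c φ i) = ⊤) : Gens (msec f x φ) := by
  unfold Gens
  rw [eq_top_iff]
  intro y _
  have h1 := gens_of_isCon h
  unfold Gens at h1
  have h2 := h1.ge (show y ∈ (⊤ : C.Opens) from trivial)
  rw [Opens.mem_iSup] at h2
  obtain ⟨j, hj⟩ := h2
  set V : C.Opens := gl (x j) with hV
  have he : IsGen (res L (le_top : V ≤ ⊤) (x j)) := isGen_res_gl (x j)
  choose a ha using fun i => he.exists_eq (res L (le_top : V ≤ ⊤) (x i))
  have h3 := van_qf h V _ a he ha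
  rw [Opens.mem_iSup]
  by_contra hcon
  push Not at hcon
  have h4 : f y ∈ ⨆ i, T.basicOpen (bpf c φ i) := by rw [hb]; trivial
  rw [Opens.mem_iSup] at h4
  obtain ⟨i, hi⟩ := h4
  rw [← evaluation_ρV_ne_zero_iff V y hj] at hi
  refine hi ?_
  let g : Γ(T, ⊤) →+* C.residueField y := (C.evaluation V y hj).hom.comp (ρV f V)
  have h5 : g (bpf c φ i) = bpf (fun j => g (c j)) (fun l j => g (φ l j)) i := bpf_map g c φ i
  refine h5.trans (bpf_eq_zero _ _ (fun i => C.evaluation V y hj (a i)) ?_ ?_ ?_ i)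
  · intro h6
    have h7 : a j = 1 := by
      refine he.ext ?_
      rw [← ha j, one_smul]
    have h8 := congrFun h6 j
    simp only [h7, map_one, Pi.zero_apply] at h8
    exact one_ne_zero h8
  · have h6 := congrArg (C.evaluation V y hj).hom h3
    rw [MvPolynomial.eval₂_comp_left, map_zero, eval₂_qf] at h6
    exact h6
  · intro l
    by_contra h6
    exact hcon l ((mem_gl_msec_iff he ha φ l hj).2 h6)

theorem bpf_of_gens (h : IsCon c f L x) (φ : Fin (n + 1) → Fin 3 → Γ(T, ⊤)) (hg : Gens (msec f x φ)) :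
    ⨆ i, T.basicOpen (bpf c φ i) = ⊤ := by
  rw [eq_top_iff]
  intro t _
  rw [Opens.mem_iSup]
  by_contra hcon
  push Not at hcon
  let Ω := AlgebraicClosure (T.residueField t)
  let s : Spec (CommRingCat.of Ω) ⟶ T :=
    Spec.map (CommRingCat.ofHom (algebraMap (T.residueField t) Ω)) ≫ T.fromSpecResidueField t
  let g : Γ(T, ⊤) →+* Ω := (Scheme.ΓSpecIso (CommRingCat.of Ω)).hom.hom.comp s.appTop.hom
  have hs : ∀ b : Γ(T, ⊤), t ∉ T.basicOpen b → g b = 0 := by
    intro b hb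
    have h1 : (Spec (CommRingCat.of Ω)).basicOpen (s.appTop b) = ⊥ := by
      have h0 : s ⁻¹ᵁ T.basicOpen b = (Spec (CommRingCat.of Ω)).basicOpen (s.appTop b) :=
        Scheme.preimage_basicOpen s b
      rw [← h0, eq_bot_iff]
      intro p hp
      refine (hb ?_).elim
      have h2 : s p = t := by
        rw [Scheme.Hom.comp_apply]
        exact Scheme.fromSpecResidueField_apply _ _
      rw [← h2]
      exact hp
    have h2 : s.appTop b = 0 := (basicOpen_eq_bot_iff _).1 h1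
    change (Scheme.ΓSpecIso (CommRingCat.of Ω)).hom.hom (s.appTop.hom b) = 0
    have h3 : s.appTop.hom b = 0 := h2
    rw [h3, map_zero]
  obtain ⟨v, hv0, hv1, hv2⟩ := exists_zero (K := Ω) (fun j => g (c j)) (fun l j => g (φ l j)) fun i => by
    rw [← bpf_map g c φ i]
    exact hs _ (hcon i)
  obtain ⟨j, hj⟩ : ∃ j, v j ≠ 0 := by
    by_contra h1
    push Not at h1
    exact hv0 (funext h1)
  let γ : Γ(Spec (CommRingCat.of Ω), ⊤) ≃+* Ω := (Scheme.ΓSpecIso (CommRingCat.of Ω)).commRingCatIsoToRingEquiv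
  have hγ : ∀ b : Γ(T, ⊤), γ (s.appTop.hom b) = g b := fun b => rfl
  obtain ⟨r, hr, e, he⟩ := exists_pt h s (fun i => γ.symm (v i)) j ((isUnit_iff_ne_zero.2 hj).map γ.symm) (by
    apply γ.injective
    have h1 := MvPolynomial.eval₂_comp_left (γ : Γ(Spec (CommRingCat.of Ω), ⊤) →+* Ω) s.appTop.hom
      (fun i => γ.symm (v i)) (qf c)
    have h2 : (γ : Γ(Spec (CommRingCat.of Ω), ⊤) →+* Ω) ∘ (fun i => γ.symm (v i)) = v := by
      funext i
      exact γ.apply_symm_apply (v i)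
    rw [h2] at h1
    rw [map_zero]
    exact h1.trans ((eval₂_qf _ c v).trans hv1))
  have hp : ∀ l, gl (pullTop r (msec f x φ l)) = gl (0 : Γ(Coh.structureModule (Spec (CommRingCat.of Ω)), ⊤)) := by
    intro l
    rw [← gl_app e, pullTop_msec, app_msec]
    congr 1
    have h3 : ∑ i, s.appTop (φ l i) * γ.symm (v i) = 0 := by
      apply γ.injective
      rw [map_sum, map_zero, ← hv2 l]
      refine Finset.sum_congr rfl fun i _ => ?_
      rw [map_mul, γ.apply_symm_apply]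
      rfl
    unfold msec
    have h4 : ∀ i, ((r ≫ f).appTop (φ l i)) • e.hom.app ⊤ (pullTop r (x i)) =
        (ofFun (s.appTop (φ l i) * γ.symm (v i)) : Γ(Coh.structureModule (Spec (CommRingCat.of Ω)), ⊤)) := by
      intro i
      rw [he, hr, ofFun_eq_smul, ofFun_eq_smul, smul_smul]
    rw [Finset.sum_congr rfl fun i _ => h4 i, ← map_sum, h3, map_zero]
  let p : Spec (CommRingCat.of Ω) := IsLocalRing.closedPoint Ω
  have h1 : r p ∈ ⨆ l, gl (msec f x φ l) := by
    have h2 : ⨆ l, gl (msec f x φ l) = ⊤ := hg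
    rw [h2]
    trivial
  rw [Opens.mem_iSup] at h1
  obtain ⟨l, hl⟩ := h1
  have h2 : p ∈ gl (pullTop r (msec f x φ l)) := by
    rw [gl_pullTop r (isInvertible_of_isCon h)]
    exact hl
  rw [hp] at h2
  exact gl_zero _ h2

/-- Node K6: the sections `msec` generate iff `bpf` does not vanish at any point of the base. -/
theorem gens_msec_iff (h : IsCon c f L x) (φ : Fin (n + 1) → Fin 3 → Γ(T, ⊤)) :
    Gens (msec f x φ) ↔ ⨆ i, T.basicOpen (bpf c φ i) = ⊤ :=
  ⟨bpf_of_gens h φ, gens_of_bpf h φ⟩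

end K398.ConGen
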