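import Groth.Agent.Fano.K745.ConDef
import Groth.Agent.Fano.K714.Zeros

/-!
# Base point freeness of the sections `msec` on a plane conic: linear algebra

* `bpf_map`, `disc3_map`, `regPoly_map`: naturality;
* `bpf_eq_zero`: a common zero of `qf c` and of the linear forms `φ l` forces `bpf c φ = 0`;
* `exists_zero`: the converse over an algebraically closed field.
-/

set_option autoImplicit false

universe u

open CategoryTheory CategoryTheory.Limits AlgebraicGeometry MvPolynomial

namespace K398.ConAlg

open K745.ConDef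

section

variable {A B : Type u} [CommRing A] [CommRing B] {n : ℕ}

/-- The value of the form `qf c`. -/
theorem eval_qf (c : Fin 5 → A) (v : Fin 3 → A) : MvPolynomial.eval v (qf c) =
    v 0 ^ 2 + c 0 * (v 0 * v 1) + c 1 * (v 0 * v 2) + c 2 * v 1 ^ 2 + c 3 * (v 1 * v 2) + c 4 * v 2 ^ 2 := by
  simp [qf]

theorem eval₂_qf (g : A →+* B) (c : Fin 5 → A) (v : Fin 3 → B) : MvPolynomial.eval₂ g v (qf c) =
    MvPolynomial.eval v (qf fun i => g (c i)) := by
  rw [← map_qf, MvPolynomial.eval_map]

theorem map_eval_qf (g : A →+* B) (c : Fin 5 → A) (v : Fin 3 → A) : g (MvPolynomial.eval v (qf c)) =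
    MvPolynomial.eval (fun i => g (v i)) (qf fun i => g (c i)) := by
  rw [eval_qf, eval_qf]
  simp

theorem eval_smul_qf (c : Fin 5 → A) (v : Fin 3 → A) (r : A) : MvPolynomial.eval (fun i => r * v i) (qf c) =
    r ^ 2 * MvPolynomial.eval v (qf c) := by
  rw [eval_qf, eval_qf]
  ring

theorem disc3_map (g : A →+* B) (c : Fin 5 → A) (i : Fin 3) : g (disc3 c i) = disc3 (fun j => g (c j)) i := by
  have h4 : g 4 = 4 := map_ofNat g 4
  have h2 : g 2 = 2 := map_ofNat g 2
  fin_cases i <;> simp [disc3, h4, h2]

theorem bpf_map (g : A →+* B) (c : Fin 5 → A) (φ : Fin (n + 1) → Fin 3 → A)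
    (i : (Fin 3 → Fin (n + 1)) ⊕ (Fin (n + 1) × Fin (n + 1))) :
    g (bpf c φ i) = bpf (fun j => g (c j)) (fun l j => g (φ l j)) i := by
  rcases i with l | ab
  · simp only [bpf, det3]
    rw [RingHom.map_det]
    rfl
  · simp only [bpf]
    rw [map_eval_qf]
    congr 2
    funext i
    fin_cases i <;> simp [crossProduct]

theorem regPoly_map (g : A →+* B) (c : Fin 5 → A) (φ : Fin (n + 1) → Fin 3 → A)
    (i : Fin 3 × ((Fin 3 → Fin (n + 1)) ⊕ (Fin (n + 1) × Fin (n + 1)))) :
    g (regPoly c φ i) = regPoly (fun j => g (c j)) (fun l j => g (φ l j)) i := by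
  simp only [regPoly]
  rw [map_mul, disc3_map, bpf_map]

theorem isHomogeneous_qf (c : Fin 5 → A) : (qf c).IsHomogeneous 2 := by
  have hX : ∀ i : Fin 3, (MvPolynomial.X i : MvPolynomial (Fin 3) A).IsHomogeneous 1 := isHomogeneous_X A
  have hC : ∀ a : A, (MvPolynomial.C a : MvPolynomial (Fin 3) A).IsHomogeneous 0 := isHomogeneous_C _
  unfold qf
  refine ((((IsHomogeneous.add ?_ ?_).add ?_).add ?_).add ?_).add ?_
  · exact (hX 0).pow 2
  · exact (hC _).mul ((hX 0).mul (hX 1))
  · exact (hC _).mul ((hX 0).mul (hX 2))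
  · exact (hC _).mul ((hX 1).pow 2)
  · exact (hC _).mul ((hX 1).mul (hX 2))
  · exact (hC _).mul ((hX 2).pow 2)

theorem isHomogeneous_lin3 (v : Fin 3 → A) : (lin3 v).IsHomogeneous 1 := by
  unfold lin3
  refine IsHomogeneous.sum _ _ _ fun i _ => ?_
  have h := (isHomogeneous_C (Fin 3) (v i)).mul (isHomogeneous_X A i)
  simpa using h

theorem eval_lin3 (v w : Fin 3 → A) : MvPolynomial.eval w (lin3 v) = ∑ i, v i * w i := by
  simp [lin3]

end

section Field

variable {K : Type u} [Field K] {n : ℕ}

/-- A common zero of the conic and of the linear forms forces `bpf` to vanish. -/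
theorem bpf_eq_zero (c : Fin 5 → K) (φ : Fin (n + 1) → Fin 3 → K) (v : Fin 3 → K) (hv : v ≠ 0)
    (hq : MvPolynomial.eval v (qf c) = 0) (hφ : ∀ l, ∑ i, φ l i * v i = 0)
    (i : (Fin 3 → Fin (n + 1)) ⊕ (Fin (n + 1) × Fin (n + 1))) : bpf c φ i = 0 := by
  rcases i with l | ⟨a, b⟩
  · simp only [bpf, det3]
    rw [← Matrix.exists_mulVec_eq_zero_iff]
    refine ⟨v, hv, ?_⟩
    funext j
    exact hφ (l j)
  · simp only [bpf]
    obtain ⟨j, hj⟩ : ∃ j, v j ≠ 0 := by
      by_contra h
      push Not at h
      exact hv (funext h)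
    have h1 : ∀ p q : Fin 3, crossProduct (φ a) (φ b) p * v q = crossProduct (φ a) (φ b) q * v p := by
      have ha := hφ a
      have hb := hφ b
      rw [Fin.sum_univ_three] at ha hb
      have e01 : crossProduct (φ a) (φ b) 0 * v 1 = crossProduct (φ a) (φ b) 1 * v 0 := by
        simp only [cross_apply, Matrix.cons_val_zero, Matrix.cons_val_one]
        linear_combination φ b 2 * ha - φ a 2 * hb
      have e02 : crossProduct (φ a) (φ b) 0 * v 2 = crossProduct (φ a) (φ b) 2 * v 0 := by
        simp only [cross_apply, Matrix.cons_val_zero, Matrix.cons_val]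
        linear_combination φ a 1 * hb - φ b 1 * ha
      have e12 : crossProduct (φ a) (φ b) 1 * v 2 = crossProduct (φ a) (φ b) 2 * v 1 := by
        simp only [cross_apply, Matrix.cons_val_one, Matrix.cons_val]
        linear_combination φ b 0 * ha - φ a 0 * hb
      intro p q
      fin_cases p <;> fin_cases q
      · rfl
      · exact e01
      · exact e02
      · exact e01.symm
      · rfl
      · exact e12
      · exact e02.symm
      · exact e12.symm
      · rfl
    have h2 : crossProduct (φ a) (φ b) = fun p => (crossProduct (φ a) (φ b) j / v j) * v p := by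
      funext p
      rw [div_mul_eq_mul_div, eq_div_iff hj]
      exact h1 p j
    rw [h2, eval_smul_qf, hq, mul_zero]

/-- Over an algebraically closed field, `bpf = 0` forces a common zero of the conic and of the linear forms. -/
theorem exists_zero [IsAlgClosed K] (c : Fin 5 → K) (φ : Fin (n + 1) → Fin 3 → K)
    (h : ∀ i, bpf c φ i = 0) :
    ∃ v : Fin 3 → K, v ≠ 0 ∧ MvPolynomial.eval v (qf c) = 0 ∧ ∀ l, ∑ i, φ l i * v i = 0 := by
  by_cases hc : ∃ a b, crossProduct (φ a) (φ b) ≠ 0
  · obtain ⟨a, b, hab⟩ := hc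
    refine ⟨_, hab, h (Sum.inr (a, b)), fun l => ?_⟩
    have h1 := h (Sum.inl ![l, a, b])
    simp only [bpf, det3] at h1
    have h2 := triple_product_eq_det (φ l) (φ a) (φ b)
    have h3 : (Matrix.of fun i j => φ ((![l, a, b] : Fin 3 → Fin (n + 1)) i) j) = ![φ l, φ a, φ b] := by
      funext i j
      fin_cases i <;> rfl
    rw [h3] at h1
    rw [h1] at h2
    exact h2
  · push Not at hc
    by_cases h0 : ∃ a, φ a ≠ 0
    · obtain ⟨a, ha⟩ := h0
      obtain ⟨v, hv, hz⟩ := K714.Zeros.exists_ne_zero (k := K) (N := 3) (ι := Fin 2) (by simp) ![2, 1]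
        (by intro i; fin_cases i <;> simp) ![qf c, lin3 (φ a)] (by
          intro i
          fin_cases i
          · exact isHomogeneous_qf c
          · exact isHomogeneous_lin3 _)
      have hz0 : MvPolynomial.eval v (qf c) = 0 := hz 0
      have hz1 : MvPolynomial.eval v (lin3 (φ a)) = 0 := hz 1
      rw [eval_lin3] at hz1
      refine ⟨v, hv, hz0, fun l => ?_⟩
      obtain ⟨j, hj⟩ : ∃ j, φ a j ≠ 0 := by
        by_contra h
        push Not at h
        exact ha (funext h)
      have h1 : ∀ p q : Fin 3, φ l p * φ a q = φ l q * φ a p := by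
        have e := hc l a
        have e0 := congrFun e 0
        have e1 := congrFun e 1
        have e2 := congrFun e 2
        simp only [cross_apply, Matrix.cons_val_zero, Matrix.cons_val_one, Matrix.cons_val, Pi.zero_apply] at e0 e1 e2
        have f01 : φ l 0 * φ a 1 = φ l 1 * φ a 0 := by linear_combination e2
        have f02 : φ l 0 * φ a 2 = φ l 2 * φ a 0 := by linear_combination -e1
        have f12 : φ l 1 * φ a 2 = φ l 2 * φ a 1 := by linear_combination e0
        intro p q
        fin_cases p <;> fin_cases q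
        · rfl
        · exact f01
        · exact f02
        · exact f01.symm
        · rfl
        · exact f12
        · exact f02.symm
        · exact f12.symm
        · rfl
      have h2 : φ a j * ∑ i, φ l i * v i = 0 := by
        have h3 : φ a j * ∑ i, φ l i * v i = φ l j * ∑ i, φ a i * v i := by
          rw [Finset.mul_sum, Finset.mul_sum]
          refine Finset.sum_congr rfl fun i _ => ?_
          linear_combination v i * h1 i j
        rw [h3, hz1, mul_zero]
      exact (mul_eq_zero.1 h2).resolve_left hj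
    · push Not at h0
      obtain ⟨v, hv, hz⟩ := K714.Zeros.exists_ne_zero (k := K) (N := 3) (ι := Fin 1) (by simp) ![2]
        (by intro i; fin_cases i; simp) ![qf c] (by
          intro i
          fin_cases i
          exact isHomogeneous_qf c)
      refine ⟨v, hv, hz 0, fun l => ?_⟩
      simp [h0 l]

end Field

end K398.ConAlg
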