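import Groth.Agent.Fano.K398.ConGen
import Groth.Agent.CohqB.DevGeom
import Mathlib.AlgebraicGeometry.Morphisms.Proper

/-!
# Maps from plane conics contract no irreducible component (CON-D, node K7a)

* `subsingleton_of_isGen`: an integral closed subscheme of a conic over which a section of `O(1)` generates is a point;
* `not_subsingleton`: a conic is not a point;
* `eq_bot_or_eq_bot`: a conic is connected;
* `not_subsingleton_image`: node K7a.
-/

set_option autoImplicit false

universe u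

open CategoryTheory CategoryTheory.Limits AlgebraicGeometry TopologicalSpace

namespace K398.ConComp

open K390.PnSec Groth.Agent.Fdesc.LocGen Groth.Agent.Dix.ProjProper
open Groth.Agent.Ega2.H295.PnUniq Groth.Agent.Ega2.H295.PnCoord
open K188.LineDef K188.MapP1 K188.LinFun K745.ConDef K398.ConAlg K123.Van K398.ConGen

/-- A proper integral scheme over an algebraically closed field only has constant functions. -/
theorem exists_const {X : Scheme.{u}} (K : Type u) [Field K] [IsAlgClosed K] (f : X ⟶ Spec (CommRingCat.of K))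
    [IsProper f] [IsIntegral X] (r : Γ(X, ⊤)) :
    ∃ c : K, r = f.appTop ((Scheme.ΓSpecIso (CommRingCat.of K)).inv c) := by
  let F : K →+* Γ(X, ⊤) := ((Scheme.ΓSpecIso (CommRingCat.of K)).inv ≫ f.appTop).hom
  have hint : F.IsIntegral := by
    have h1 := RingHom.isIntegral_respectsIso.2 (e := (Scheme.ΓSpecIso (CommRingCat.of K)).symm.commRingCatIsoToRingEquiv)
      (f := f.appTop.hom) (isIntegral_appTop_of_universallyClosed f)
    exact h1
  have hdom : IsDomain Γ(X, ⊤) := inferInstance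
  let alg : Algebra K Γ(X, ⊤) := F.toAlgebra
  have : Algebra.IsIntegral K Γ(X, ⊤) := ⟨hint⟩
  obtain ⟨c, hc⟩ := (IsAlgClosed.algebraMap_bijective_of_isIntegral (k := K) (K := Γ(X, ⊤))).2 r
  exact ⟨c, hc.symm⟩

section KField

variable {Ω : Type u} [Field Ω] {C : Scheme.{u}} {q : C ⟶ Spec (CommRingCat.of Ω)}
  {c : Fin 5 → Γ(Spec (CommRingCat.of Ω), ⊤)} {L : C.Modules} {x : Fin 3 → Γ(L, ⊤)}

theorem isProper_of_isCon {T : Scheme.{u}} {f : C ⟶ T} {c : Fin 5 → Γ(T, ⊤)} (h : IsCon c f L x) : IsProper f := by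
  obtain ⟨ι, hf, -, hz⟩ := h
  have := hz.isClosedImmersion
  rw [← hf]
  infer_instance

/-- An integral closed subscheme of a conic over which a section of `O(1)` generates is a point. -/
theorem subsingleton_of_isGen [IsAlgClosed Ω] (h : IsCon c q L x) {E : Scheme.{u}} (j : E ⟶ C) [IsClosedImmersion j]
    [IsIntegral E] (s : Γ(L, ⊤)) (hs : IsGen (pullTop j s)) : Subsingleton E := by
  have hprop := isProper_of_isCon h
  obtain ⟨ι, hf, hg, hz⟩ := h
  have := hz.isClosedImmersion
  obtain ⟨e, he⟩ := exists_iso_of_isGen hs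
  choose v hv using fun i => exists_const Ω (j ≫ q) (ofFun.symm (e.hom.app ⊤ (pullTop j (x i))))
  let v' : Fin 3 → Γ(Spec (CommRingCat.of Ω), ⊤) := fun i => (Scheme.ΓSpecIso (CommRingCat.of Ω)).inv (v i)
  have h1 : GivenBy (j ≫ ι ≫ toZ 2 _) (Coh.structureModule E) (fun i => ofFun ((j ≫ q).appTop (v' i))) := by
    have h2 := (hg.comp j).of_iso e
    have h3 : (fun i => e.hom.app ⊤ (pullTop j (x i))) = fun i => ofFun ((j ≫ q).appTop (v' i)) := by
      funext i
      rw [← hv i]
      rfl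
    rw [h3] at h2
    exact h2
  have h2 : ∃ i, v i ≠ 0 := by
    by_contra hcon
    push Not at hcon
    have h3 := h1.iSup_genLocus
    have h4 := h3.ge (show genericPoint E ∈ (⊤ : E.Opens) from trivial)
    rw [Opens.mem_iSup] at h4
    obtain ⟨i, hi⟩ := h4
    have h5 : (ofFun ((j ≫ q).appTop (v' i)) : Γ(Coh.structureModule E, ⊤)) = 0 := by
      have h6 : v' i = 0 := by
        change (Scheme.ΓSpecIso (CommRingCat.of Ω)).inv (v i) = 0
        rw [hcon i, map_zero]
      rw [h6, map_zero, map_zero]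
    rw [h5] at hi
    exact gl_zero _ hi
  obtain ⟨i, hi⟩ := h2
  have hcov : ⨆ i, gl (ofFun (v' i) : Γ(Coh.structureModule (Spec (CommRingCat.of Ω)), ⊤)) = ⊤ := by
    rw [eq_top_iff]
    refine le_trans ?_ (le_iSup _ i)
    rw [le_gl_iff, res_refl, ofFun_eq_smul]
    exact (isGen_one ⊤).unit_smul ((isUnit_iff_ne_zero.2 hi).map (Scheme.ΓSpecIso (CommRingCat.of Ω)).inv.hom)
  obtain ⟨r0, hr0⟩ := exists_givenBy' (n := 2) (M := Coh.structureModule _) (fun i => ofFun (v' i)) hcov
  have h3 := givenBy_ofFun_comp hr0 (j ≫ q)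
  have h4 : j ≫ ι ≫ toZ 2 _ = (j ≫ q) ≫ r0 := h1.unique' h3
  have h5 : j ≫ ι = (j ≫ q) ≫ liftP r0 (𝟙 _) := by
    refine hom_ext_over ?_ ?_
    · rw [Category.assoc, h4, Category.assoc, Category.assoc, Category.assoc, liftP_toZ]
    · rw [Category.assoc, Category.assoc, liftP_toBase, Category.comp_id]
      have h6 : ι ≫ CohB1.ProjSpaceOver.toBase 2 _ = q := hf
      rw [h6]
  refine ⟨fun a b => ?_⟩
  have h6 : Function.Injective (j ≫ ι) := (j ≫ ι).isClosedEmbedding.injective
  refine h6 ?_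
  have h7 : ∀ a, (j ≫ ι) a = (liftP r0 (𝟙 _)) ((j ≫ q) a) := fun a => by
    rw [h5]
    exact Scheme.Hom.comp_apply _ _ _
  have h8 : (j ≫ q) a = (j ≫ q) b :=
    @Subsingleton.elim (PrimeSpectrum Ω) _ _ _
  rw [h7, h7, h8]

theorem nonempty_of_bijective (hb : Function.Bijective q.appTop) : Nonempty C := by
  by_contra hcon
  have h1 : ∀ a b : Γ(C, ⊤), a = b := fun a b =>
    ores_ext (fun i : PEmpty.{1} => i.elim) (fun i => i.elim) (fun y _ => (hcon ⟨y⟩).elim) fun i => i.elim
  have h2 : (1 : Γ(Spec (CommRingCat.of Ω), ⊤)) = 0 := hb.1 (h1 _ _)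
  have h3 := congrArg (Scheme.ΓSpecIso (CommRingCat.of Ω)).hom h2
  rw [map_one, map_zero] at h3
  exact one_ne_zero (α := Ω) h3

/-- Functions on `C` come from the field: `C` is connected. -/
theorem eq_bot_or_eq_bot (hb : Function.Bijective q.appTop) (U W : C.Opens) (h1 : U ⊔ W = ⊤) (h2 : U ⊓ W = ⊥) :
    U = ⊥ ∨ W = ⊥ := by
  let V : Bool → C.Opens := fun b => if b then U else W
  have hz : ∀ a b : Γ(C, U ⊓ W), a = b := fun a b =>
    ores_ext (fun i : PEmpty.{1} => i.elim) (fun i => i.elim) (fun y hy => by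
      rw [h2] at hy
      exact hy.elim) fun i => i.elim
  have hz' : ∀ a b : Γ(C, W ⊓ U), a = b := by rw [inf_comm]; exact hz
  obtain ⟨g, hg⟩ := ores_glue (V := (⊤ : C.Opens)) V (fun _ => le_top) (by
      rw [← h1]
      exact sup_le (le_iSup V true) (le_iSup V false)) (fun b => if b then 1 else 0) (by
    intro i j
    cases i <;> cases j
    · rfl
    · exact hz' _ _
    · exact hz _ _
    · rfl)
  have hg1 : ores (le_top : U ≤ ⊤) g = 1 := hg true
  have hg0 : ores (le_top : W ≤ ⊤) g = 0 := hg false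
  have key : ∀ (Y : C.Opens), (1 : Γ(C, Y)) = 0 → Y = ⊥ := by
    intro Y hY
    rw [eq_bot_iff]
    intro y hy
    have h3 : (C.presheaf.germ Y y hy).hom 1 = (C.presheaf.germ Y y hy).hom 0 := by rw [hY]
    rw [map_one, map_zero] at h3
    exact (one_ne_zero h3).elim
  obtain ⟨b, hb'⟩ := hb.2 g
  by_cases hb0 : b = 0
  · left
    apply key
    rw [← hg1, ← hb', hb0, map_zero, map_zero]
  · right
    apply key
    have h3 : IsUnit b := by
      have h4 : (Scheme.ΓSpecIso (CommRingCat.of Ω)).hom b ≠ 0 := by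
        intro h5
        apply hb0
        have h6 := congrArg (Scheme.ΓSpecIso (CommRingCat.of Ω)).inv h5
        rw [map_zero] at h6
        have h7 : (Scheme.ΓSpecIso (CommRingCat.of Ω)).inv ((Scheme.ΓSpecIso (CommRingCat.of Ω)).hom b) = b :=
          congr(($((Scheme.ΓSpecIso (CommRingCat.of Ω)).hom_inv_id)) b)
        rw [h7] at h6
        exact h6
      have h5 := ((isUnit_iff_ne_zero (G₀ := Ω)).2 h4).map (Scheme.ΓSpecIso (CommRingCat.of Ω)).inv.hom
      have h7 : (Scheme.ΓSpecIso (CommRingCat.of Ω)).inv ((Scheme.ΓSpecIso (CommRingCat.of Ω)).hom b) = b :=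
        congr(($((Scheme.ΓSpecIso (CommRingCat.of Ω)).hom_inv_id)) b)
      rw [← h7]
      exact h5
    have h4 : IsUnit (ores (le_top : W ≤ ⊤) g) := by
      rw [← hb']
      exact (h3.map q.appTop.hom).map _
    rw [hg0] at h4
    obtain ⟨w, hw⟩ := h4
    rw [← w.mul_inv, hw, zero_mul]

/-- A conic is not a point. -/
theorem not_subsingleton (h : IsCon c q L x)
    (hs : ∀ s : Γ(L, ⊤), ∃! a : Fin 3 → Γ(Spec (CommRingCat.of Ω), ⊤), s = ∑ i, (q.appTop (a i)) • x i)
    (hb : Function.Bijective q.appTop) : ¬ Subsingleton C := by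
  intro hsub
  obtain ⟨y⟩ := nonempty_of_bijective hb
  have h1 : ⨆ i, gl (x i) = ⊤ := gens_of_isCon h
  have h2 := h1.ge (show y ∈ (⊤ : C.Opens) from trivial)
  rw [Opens.mem_iSup] at h2
  obtain ⟨j, hj⟩ := h2
  have h3 : (⊤ : C.Opens) ≤ gl (x j) := by
    intro z _
    rw [Subsingleton.elim z y]
    exact hj
  have h4 : IsGen (x j) := by
    have h5 := (le_gl_iff (x j) ⊤).1 h3
    rwa [res_refl] at h5
  obtain ⟨i, hi⟩ : ∃ i : Fin 3, i ≠ j := exists_ne j
  obtain ⟨a, ha⟩ := h4.exists_eq (x i)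
  obtain ⟨b, hb'⟩ := hb.2 a
  have h5 := (hs (x i)).unique (y₁ := Pi.single i 1) (y₂ := Pi.single j b) (by
    rw [Finset.sum_eq_single i]
    · rw [Pi.single_eq_same, map_one, one_smul]
    · intro l _ hl
      rw [Pi.single_eq_of_ne hl, map_zero, zero_smul]
    · intro h; exact (h (Finset.mem_univ i)).elim) (by
    rw [Finset.sum_eq_single j]
    · rw [Pi.single_eq_same, hb', ha]
    · intro l _ hl
      rw [Pi.single_eq_of_ne hl, map_zero, zero_smul]
    · intro h; exact (h (Finset.mem_univ j)).elim)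
  have h6 := congrFun h5 i
  rw [Pi.single_eq_same, Pi.single_eq_of_ne hi] at h6
  exact one_ne_zero h6

/-- Node K7a, from the structure of conics. -/
theorem not_subsingleton_image_of [IsAlgClosed Ω] (h : IsCon c q L x)
    (hs : ∀ s : Γ(L, ⊤), ∃! a : Fin 3 → Γ(Spec (CommRingCat.of Ω), ⊤), s = ∑ i, (q.appTop (a i)) • x i)
    (hb : Function.Bijective q.appTop) {k : Type u} [Field k] {n : ℕ} {μ : C ⟶ CohB1.ProjSpace n k}
    (s : Fin (n + 1) → Γ(L, ⊤)) (hμ : GivenBy μ L s)
    (E : Set C) (hE : E ∈ irreducibleComponents C) : ¬ (μ '' E).Subsingleton := by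
  intro hsub
  have hcl : IsClosed E := isClosed_of_mem_irreducibleComponents E hE
  obtain ⟨Z, j, hj, hZ, hr⟩ := Groth.Agent.CohqB.DevGeom.exists_integral E hcl hE.1
  -- a section which generates on `E`
  obtain ⟨e0, he0⟩ := hE.1.nonempty
  have h1 := hμ.iSup_genLocus
  have h2 := h1.ge (show e0 ∈ (⊤ : C.Opens) from trivial)
  rw [Opens.mem_iSup] at h2
  obtain ⟨i, hi⟩ := h2
  have h3 : gl (s i) = μ ⁻¹ᵁ gl (cd n k i) := by
    obtain ⟨τ, hτ⟩ := hμ
    rw [← hτ i, gl_app τ]
    exact gl_pullTop μ (isInvertible_O1 n k) (cd n k i)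
  have h4 : ∀ y ∈ E, y ∈ gl (s i) := by
    intro y hy
    rw [h3]
    have h5 : μ y = μ e0 := hsub ⟨y, hy, rfl⟩ ⟨e0, he0, rfl⟩
    change μ y ∈ gl (cd n k i)
    rw [h5]
    have h6 : e0 ∈ μ ⁻¹ᵁ gl (cd n k i) := by
      rw [← h3]
      exact hi
    exact h6
  have h5 : IsGen (pullTop j (s i)) := by
    have h6 : (⊤ : Z.Opens) ≤ gl (pullTop j (s i)) := by
      intro z _
      rw [gl_pullTop j (isInvertible_of_isCon h)]
      exact h4 _ (hr ▸ Set.mem_range_self z)
    have h7 := (le_gl_iff _ _).1 h6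
    rwa [res_refl] at h7
  have h6 := subsingleton_of_isGen h j (s i) h5
  have h7 : E = {e0} := by
    refine Set.eq_singleton_iff_unique_mem.2 ⟨he0, fun y hy => ?_⟩
    rw [← hr] at hy he0
    obtain ⟨a, rfl⟩ := hy
    obtain ⟨b, rfl⟩ := he0
    rw [Subsingleton.elim a b]
  -- `E` is open
  have hprop := isProper_of_isCon h
  have hft : LocallyOfFiniteType q := inferInstance
  have hln : IsLocallyNoetherian C := LocallyOfFiniteType.isLocallyNoetherian q
  have hcomp : CompactSpace C := QuasiCompact.compactSpace_of_compactSpace q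
  have hnoeth : IsNoetherian C := {}
  have hfin : (irreducibleComponents C).Finite := TopologicalSpace.NoetherianSpace.finite_irreducibleComponents
  let W : Set C := ⋃₀ (irreducibleComponents C \ {E})
  have hWcl : IsClosed W := by
    change IsClosed (⋃₀ (irreducibleComponents C \ {E}))
    rw [Set.sUnion_eq_biUnion]
    exact (hfin.subset Set.sdiff_subset).isClosed_biUnion fun Z hZ => isClosed_of_mem_irreducibleComponents Z hZ.1
  have hWE : W ∪ E = Set.univ := by
    refine Set.eq_univ_of_forall fun y => ?_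
    by_cases hy : irreducibleComponent y = E
    · right
      rw [← hy]
      exact mem_irreducibleComponent
    · left
      exact ⟨_, ⟨irreducibleComponent_mem_irreducibleComponents y, hy⟩, mem_irreducibleComponent⟩
  have hdisj : Disjoint W E := by
    rw [Set.disjoint_left]
    rintro y ⟨Z, ⟨hZ1, hZ2⟩, hyZ⟩ hyE
    rw [h7, Set.mem_singleton_iff] at hyE
    apply hZ2
    have h8 : E ⊆ Z := by
      rw [h7, Set.singleton_subset_iff, ← hyE]
      exact hyZ
    exact (hE.2 hZ1.1 h8).antisymm h8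
  let U1 : C.Opens := ⟨Wᶜ, hWcl.isOpen_compl⟩
  let U2 : C.Opens := ⟨Eᶜ, hcl.isOpen_compl⟩
  rcases eq_bot_or_eq_bot hb U1 U2 (by
      rw [eq_top_iff]
      intro y _
      by_cases hy : y ∈ W
      · exact Or.inr fun hyE => Set.disjoint_left.1 hdisj hy hyE
      · exact Or.inl hy) (by
      rw [eq_bot_iff]
      rintro y ⟨hy1, hy2⟩
      have h8 : y ∈ W ∪ E := by rw [hWE]; trivial
      rcases h8 with h8 | h8
      · exact hy1 h8
      · exact hy2 h8) with h8 | h8
  · have h9 : e0 ∈ U1 := fun h10 => Set.disjoint_left.1 hdisj h10 he0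
    rw [h8] at h9
    exact h9
  · refine not_subsingleton h hs hb ⟨fun a b => ?_⟩
    have h9 : ∀ y : C, y = e0 := by
      intro y
      by_contra hy
      have h10 : y ∈ U2 := by
        change y ∉ E
        rw [h7]
        exact hy
      rw [h8] at h10
      exact h10
    rw [h9 a, h9 b]

end KField

end K398.ConComp
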