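import Groth.Agent.Fano.K398.ConStab
import Groth.Agent.Fano.K949.ConB

/-!
# Maps from conics contract no component (CON-D, node K7a); node K7b from nodes K5a and K5b

* `not_subsingleton_image`: node K7a;
* `isStableMapFam_of_K5`: node K7b from nodes K5a and K5b.
-/

set_option autoImplicit false

universe u

open CategoryTheory CategoryTheory.Limits AlgebraicGeometry TopologicalSpace

namespace K398.ConD

open K390.PnSec Groth.Agent.Fdesc.LocGen Groth.Agent.Dix.ProjProper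
open K188.LineDef K745.ConDef

variable {k : Type u} [Field k] {n : ℕ}

section KField

variable (Ω : Type u) [Field Ω] [IsAlgClosed Ω] {C : Scheme.{u}} (q : C ⟶ Spec (CommRingCat.of Ω))
  (c : Fin 5 → Γ(Spec (CommRingCat.of Ω), ⊤)) {L : C.Modules} (x : Fin 3 → Γ(L, ⊤)) (h : IsCon c q L x)

include h

/-- Node K7a: maps to projective space which pull back `O(1)` to the module `O(1)` of a conic contract no
irreducible component. -/
theorem not_subsingleton_image {μ : C ⟶ CohB1.ProjSpace n k} (a : Spec (CommRingCat.of Ω) ⟶ Spec (CommRingCat.of k))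
    (_hμ : μ ≫ CohB1.ProjSpace.toSpec n k = q ≫ a) (s : Fin (n + 1) → Γ(L, ⊤)) (hs : GivenBy μ L s)
    (E : Set C) (hE : E ∈ irreducibleComponents C) : ¬ (μ '' E).Subsingleton :=
  K398.ConComp.not_subsingleton_image_of h (K949.ConB.existsUnique_sec h) (K949.ConB.appTop_bijective h) s hs E hE

end KField

/-- Node K7b, from nodes K5a and K5b. -/
theorem isStableMapFam_of_K5 [CharZero k] {T C : Scheme.{u}} (qT : T ⟶ Spec (CommRingCat.of k))
    {c : Fin 5 → Γ(T, ⊤)} {f : C ⟶ T} {L : C.Modules} {x : Fin 3 → Γ(L, ⊤)} (h : IsCon c f L x)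
    (φ : Fin (n + 1) → Fin 3 → Γ(T, ⊤)) (hr : Reg c φ) (μ : C ⟶ CohB1.ProjSpace n k)
    (hs : GivenBy μ L (msec f x φ))
    (K5a : ∀ (Ω : Type u) [Field Ω] [IsAlgClosed Ω] {C : Scheme.{u}} (q : C ⟶ Spec (CommRingCat.of Ω))
      (c : Fin 5 → Γ(Spec (CommRingCat.of Ω), ⊤)) {L : C.Modules} (x : Fin 3 → Γ(L, ⊤)) (_ : IsCon c q L x)
      [NeZero (2 : Ω)] (_ : ∃ i, disc3 c i ≠ 0) (p : Fin 0 → C), StMap.IsPrestablePtd Ω C q 0 p)
    (K5b : ∀ (Ω : Type u) [Field Ω] [IsAlgClosed Ω] {C : Scheme.{u}} (q : C ⟶ Spec (CommRingCat.of Ω))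
      (c : Fin 5 → Γ(Spec (CommRingCat.of Ω), ⊤)) {L : C.Modules} (x : Fin 3 → Γ(L, ⊤)) (_ : IsCon c q L x),
      letI : C.Over (Spec (CommRingCat.of Ω)) := ⟨q⟩; Curv2.deg Ω C L 1 = 2) :
    StMap.IsStableMapFam f (Fin.elim0 : Fin 0 → (T ⟶ C)) (fun i => i.elim0) μ 0 ∧
      StMap.IsFibDeg f μ (O1 n k) 2 :=
  K398.ConStab.isStableMapFam_of qT h φ hr μ hs (K949.ConB.flat_isProper h)
    (fun _ _ _ _ _ _ _ h s => K949.ConB.existsUnique_sec h s)
    (fun _ _ _ _ _ _ _ h => K949.ConB.appTop_bijective h) K5a K5b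

end K398.ConD
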