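import Groth.Agent.Fano.K398.ConComp
import Groth.Agent.Fano.K949.ConB
import Groth.Agent.Variety.K434.DimQF
import Groth.Agent.FlatA.DimFin
import Mathlib.RingTheory.KrullDimension.Polynomial

/-!
# Plane conics over a field: connectedness and dimension (for node K5a)

* `connectedSpace`: a plane conic is connected;
* `topologicalKrullDim_eq_one`: a plane conic is a curve.
-/

set_option autoImplicit false

universe u

open CategoryTheory CategoryTheory.Limits AlgebraicGeometry TopologicalSpace

namespace K398.ConDim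

open K390.PnSec Groth.Agent.Fdesc.LocGen Groth.Agent.Dix.ProjProper
open K188.LineDef K188.MapP1 K745.ConDef K949.ConAlg K949.Chart

/-- The dimension is local. -/
theorem topologicalKrullDim_le_of_cover {X : Scheme.{u}} {d : WithBot ℕ∞}
    (h : ∀ x : X, ∃ U : X.Opens, x ∈ U ∧ topologicalKrullDim U ≤ d) : topologicalKrullDim X ≤ d := by
  rw [K434.DimQF.topologicalKrullDim_eq_iSup_stalk]
  refine iSup_le fun x => ?_
  obtain ⟨U, hx, hU⟩ := h x
  have h1 : topologicalKrullDim U.toScheme ≤ d := hU
  rw [K434.DimQF.topologicalKrullDim_eq_iSup_stalk] at h1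
  have h2 := (le_iSup (fun y : U.toScheme => ringKrullDim (U.toScheme.presheaf.stalk y)) ⟨x, hx⟩).trans h1
  rw [ringKrullDim_eq_of_ringEquiv (U.stalkIso ⟨x, hx⟩).commRingCatIsoToRingEquiv] at h2
  exact h2

/-- The ring of the chart has dimension one more than the base. -/
theorem ringKrullDim_B {A : Type u} [CommRing A] (c : Fin 5 → A) :
    ringKrullDim (B c) = ringKrullDim (Polynomial A) := by
  have : Algebra.IsIntegral (Polynomial A) (B c) := inferInstance
  refine Groth.Agent.FlatA.DimFin.ringKrullDim_eq_of_isIntegral_of_injective _ _ fun p q hpq => ?_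
  exact congrArg QuadraticAlgebra.re hpq

section KField

variable (Ω : Type u) [Field Ω] {C : Scheme.{u}} {q : C ⟶ Spec (CommRingCat.of Ω)}
  {c : Fin 5 → Γ(Spec (CommRingCat.of Ω), ⊤)} {L : C.Modules} {x : Fin 3 → Γ(L, ⊤)} (h : IsCon c q L x)

/-- The dimension of the chart. -/
theorem dim_UV (h : CD c q x) : topologicalKrullDim (UV q x ⊤) = 1 := by
  have h1 := isIso_theta h (isAffineOpen_top (Spec (CommRingCat.of Ω)))
  have h2 := (Scheme.homeoOfIso (asIso (theta h ⊤))).isHomeomorph.topologicalKrullDim_eq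
  have h3 : topologicalKrullDim (UV q x ⊤) =
      topologicalKrullDim (PrimeSpectrum (B (cV c (⊤ : (Spec (CommRingCat.of Ω)).Opens)))) := h2
  rw [h3, PrimeSpectrum.topologicalKrullDim_eq_ringKrullDim, ringKrullDim_B]
  let e : Γ(Spec (CommRingCat.of Ω), ⊤) ≃+* Ω := (Scheme.ΓSpecIso (CommRingCat.of Ω)).commRingCatIsoToRingEquiv
  rw [ringKrullDim_eq_of_ringEquiv (Polynomial.mapEquiv e), Polynomial.ringKrullDim_of_isNoetherianRing,
    ringKrullDim_eq_zero_of_field, zero_add]

include h

/-- A plane conic is a curve. -/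
theorem topologicalKrullDim_eq_one : topologicalKrullDim C = 1 := by
  have hc := K949.ConB.cd_of_isCon h
  apply le_antisymm
  · refine topologicalKrullDim_le_of_cover fun t => ?_
    rcases hc.mem_gl t with h1 | h1
    · exact ⟨UV q x ⊤, ⟨h1, trivial⟩, (dim_UV Ω hc).le⟩
    · exact ⟨UV q (sx x) ⊤, ⟨h1, trivial⟩, (dim_UV Ω hc.swap).le⟩
  · rw [← dim_UV Ω hc]
    exact Topology.IsInducing.topologicalKrullDim_le (UV q x ⊤).ι.isOpenEmbedding.isInducing

/-- A plane conic is connected. -/
theorem connectedSpace : ConnectedSpace C := by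
  have hb := K949.ConB.appTop_bijective h
  rw [connectedSpace_iff_clopen]
  refine ⟨K398.ConComp.nonempty_of_bijective hb, fun s hs => ?_⟩
  rcases K398.ConComp.eq_bot_or_eq_bot hb ⟨s, hs.isOpen⟩ ⟨sᶜ, hs.compl.isOpen⟩ (by
    ext t
    simp) (by
    ext t
    simp) with h1 | h1
  · left
    exact congrArg (fun U : C.Opens => (U : Set C)) h1
  · right
    have h2 : sᶜ = ∅ := congrArg (fun U : C.Opens => (U : Set C)) h1
    exact Set.compl_empty_iff.1 h2

end KField

end K398.ConDim
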