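import Groth.Agent.Fano.K949.ConB
import Groth.Agent.Fano.K398.ConGen
import Groth.Agent.CurvesC.TwoAffine
import Groth.Agent.CurvesB.HZero
import Groth.Agent.Ega2.QCohLocal

/-!
# Cohomology of plane conics over a field (node K5b)

* `exists_split`: functions on the intersection of the two charts;
* `subsingleton_HH`: vanishing of `H^n(O)` and `H^n(O(1))` for `n ≥ 1`;
* `genus_eq_zero`: a plane conic has genus zero;
* `deg_eq_two`: the degree of `O(1)` on a plane conic is two.
-/

set_option autoImplicit false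

universe u

open CategoryTheory CategoryTheory.Limits AlgebraicGeometry TopologicalSpace

namespace K398.ConEuler

open K390.PnSec Groth.Agent.Fdesc.LocGen Groth.Agent.Dix.ProjProper
open K188.LineDef K188.MapP1 K745.ConDef K949.ConAlg K949.Chart

section Split

variable {T C : Scheme.{u}} {c : Fin 5 → Γ(T, ⊤)} {f : C ⟶ T} {L : C.Modules} {x : Fin 3 → Γ(L, ⊤)}

/-- Functions on the intersection of the two charts. -/
theorem exists_split (h : CD c f x) {V : T.Opens} (hV : IsAffineOpen V) (d : ℕ) (z : Γ(C, W12 f x V)) :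
    ∃ (a : Γ(C, UV f x V)) (b : Γ(C, UV f (sx x) V)),
      z = ores (inf_le_left : W12 f x V ≤ UV f x V) a +
        ores (inf_le_left.trans inf_le_left : W12 f x V ≤ gl (x 1)) (cs x) ^ d *
          ores (inf_le_right : W12 f x V ≤ UV f (sx x) V) b := by
  obtain ⟨hst, hw⟩ := rel (f := f) (x := x) V
  set s := ores (inf_le_left.trans inf_le_left : W12 f x V ≤ gl (x 1)) (cs x) with hs
  set t := ores (inf_le_right.trans inf_le_left : W12 f x V ≤ gl (sx x 1)) (cs (sx x)) with ht
  set w := ores (inf_le_left.trans inf_le_left : W12 f x V ≤ gl (x 1)) (cw x) with hw'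
  let r₁ : Γ(C, UV f x V) →+* Γ(C, W12 f x V) := ores (inf_le_left : W12 f x V ≤ UV f x V)
  let r₂ : Γ(C, UV f (sx x) V) →+* Γ(C, W12 f x V) := ores (inf_le_right : W12 f x V ≤ UV f (sx x) V)
  let ρ : Γ(T, V) →+* Γ(C, W12 f x V) := r₁.comp (rho f x V)
  have hρ : ∀ a, ρ a = r₂ (rho f (sx x) V a) := fun a =>
    (ores_appLE f inf_le_left _ (inf_le_left.trans inf_le_right) a).trans
      (ores_appLE f inf_le_right _ (inf_le_left.trans inf_le_right) a).symm
  have hs1 : r₁ (ores inf_le_left (cs x)) = s := ores_ores _ _ _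
  have hw1 : r₁ (ores inf_le_left (cw x)) = w := ores_ores _ _ _
  have hs2 : r₂ (ores inf_le_left (cs (sx x))) = t := ores_ores _ _ _
  have hw2 : r₂ (ores inf_le_left (cw (sx x))) = t * w := (ores_ores _ _ _).trans hw
  let M : AddSubmonoid Γ(C, W12 f x V) :=
    { carrier := {z | ∃ a b, z = r₁ a + s ^ d * r₂ b}
      zero_mem' := ⟨0, 0, by rw [map_zero, map_zero, mul_zero, add_zero]⟩
      add_mem' := by
        rintro _ _ ⟨a, b, rfl⟩ ⟨a', b', rfl⟩
        exact ⟨a + a', b + b', by rw [map_add, map_add]; ring⟩ }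
  have hst' : ∀ j, s ^ j * t ^ j = 1 := fun j => by rw [← mul_pow, hst, one_pow]
  have key1 : ∀ (n : ℕ) (P : Polynomial Γ(T, V)), t ^ n * Polynomial.eval₂ ρ s P ∈ M := by
    intro n P
    induction P using Polynomial.induction_on' with
    | add p q hp hq =>
      rw [Polynomial.eval₂_add, mul_add]
      exact M.add_mem hp hq
    | monomial k r =>
      rw [Polynomial.eval₂_monomial]
      rcases le_or_gt n k with hk | hk
      · refine ⟨rho f x V r * ores inf_le_left (cs x) ^ (k - n), 0, ?_⟩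
        rw [map_zero, mul_zero, add_zero, map_mul, map_pow, hs1]
        change _ = ρ r * s ^ (k - n)
        have h1 : s ^ k = s ^ n * s ^ (k - n) := by rw [← pow_add, Nat.add_sub_cancel' hk]
        rw [h1]
        linear_combination (ρ r * s ^ (k - n)) * hst' n
      · refine ⟨0, rho f (sx x) V r * ores inf_le_left (cs (sx x)) ^ (n - k + d), ?_⟩
        rw [map_zero, zero_add, map_mul, map_pow, hs2, ← hρ]
        have h1 : t ^ n = t ^ k * t ^ (n - k) := by rw [← pow_add, Nat.add_sub_cancel' hk.le]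
        rw [h1, pow_add]
        linear_combination (ρ r * t ^ (n - k)) * hst' k - (ρ r * t ^ (n - k)) * hst' d
  have key2 : ∀ (n : ℕ) (P : Polynomial Γ(T, V)), t ^ n * (Polynomial.eval₂ ρ s P * w) ∈ M := by
    intro n P
    induction P using Polynomial.induction_on' with
    | add p q hp hq =>
      rw [Polynomial.eval₂_add, add_mul, mul_add]
      exact M.add_mem hp hq
    | monomial k r =>
      rw [Polynomial.eval₂_monomial]
      rcases le_or_gt n k with hk | hk
      · refine ⟨rho f x V r * ores inf_le_left (cs x) ^ (k - n) * ores inf_le_left (cw x), 0, ?_⟩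
        rw [map_zero, mul_zero, add_zero, map_mul, map_mul, map_pow, hs1, hw1]
        change _ = ρ r * s ^ (k - n) * w
        have h1 : s ^ k = s ^ n * s ^ (k - n) := by rw [← pow_add, Nat.add_sub_cancel' hk]
        rw [h1]
        linear_combination (ρ r * s ^ (k - n) * w) * hst' n
      · refine ⟨0, rho f (sx x) V r * ores inf_le_left (cs (sx x)) ^ (n - k - 1 + d) *
          ores inf_le_left (cw (sx x)), ?_⟩
        rw [map_zero, zero_add, map_mul, map_mul, map_pow, hs2, hw2, ← hρ]
        have h1 : t ^ n = t ^ k * (t ^ (n - k - 1) * t) := by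
          rw [← pow_succ, ← pow_add]
          congr 1
          omega
        rw [h1, pow_add]
        linear_combination (ρ r * t ^ (n - k - 1) * t * w) * hst' k - (ρ r * t ^ (n - k - 1) * t * w) * hst' d
  -- the localisation
  have hU := isAffineOpen_UV h hV
  set s₀ := ores (inf_le_left : UV f x V ≤ gl (x 1)) (cs x) with hs₀
  have hloc := hU.isLocalization_basicOpen s₀
  have hW : C.basicOpen s₀ = W12 f x V := (W12_eq V).symm
  obtain ⟨⟨b, ⟨_, n, rfl⟩⟩, hb⟩ := IsLocalization.surj (Submonoid.powers s₀) (ores hW.le z)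
  have hb' : z * s ^ n = r₁ b := by
    have h1 := congrArg (ores hW.ge) hb
    rw [map_mul, ores_ores] at h1
    have h2 : ores (hW.ge.trans hW.le) z = z := ores_refl z
    rw [h2] at h1
    have h3 : ores hW.ge (algebraMap Γ(C, UV f x V) Γ(C, C.basicOpen s₀) (s₀ ^ n)) = s ^ n := by
      have h4 : ores hW.ge (algebraMap Γ(C, UV f x V) Γ(C, C.basicOpen s₀) (s₀ ^ n)) = r₁ (s₀ ^ n) :=
        ores_ores (C.basicOpen_le s₀) hW.ge (s₀ ^ n)
      rw [h4, map_pow, hs₀, hs1]
    have h5 : ores hW.ge (algebraMap Γ(C, UV f x V) Γ(C, C.basicOpen s₀) b) = r₁ b :=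
      ores_ores (C.basicOpen_le s₀) hW.ge b
    exact (congrArg (z * ·) h3).symm.trans (h1.trans h5)
  obtain ⟨⟨P, Q⟩, rfl⟩ := (PhiV_bijective h hV).2 b
  have hz : z = t ^ n * Polynomial.eval₂ ρ s P + t ^ n * (Polynomial.eval₂ ρ s Q * w) := by
    have h1 : r₁ (PhiV h.van V ⟨P, Q⟩) = Polynomial.eval₂ ρ s P + Polynomial.eval₂ ρ s Q * w := by
      rw [PhiV, Phi_mk, map_add, map_mul, Polynomial.hom_eval₂, Polynomial.hom_eval₂, hs1, hw1]
    rw [h1] at hb'
    linear_combination t ^ n * hb' - z * hst' n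
  rw [hz]
  exact M.add_mem (key1 n P) (key2 n Q)

/-- Vanishing of higher cohomology of a module generated by a section on the first chart, and by a section which is
`s ^ d` times the first one on the intersection, on the second chart. -/
theorem subsingleton_of_split (h : CD c f x) (hT : IsAffineOpen (⊤ : T.Opens)) (M : C.Modules) (hM : Coh.IsQCoh M)
    (d : ℕ) (e₁ e₂ : Γ(M, ⊤)) (he : IsGen (res M (le_top : W12 f x ⊤ ≤ ⊤) e₁))
    (h12 : res M (le_top : W12 f x ⊤ ≤ ⊤) e₂ =
      (ores (inf_le_left.trans inf_le_left : W12 f x ⊤ ≤ gl (x 1)) (cs x) ^ d) • res M (le_top : W12 f x ⊤ ≤ ⊤) e₁)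
    (n : ℕ) (hn : 1 ≤ n) : Subsingleton (Coh.HH C M n) := by
  have hU := isAffineOpen_UV h hT
  have hV := isAffineOpen_UV h.swap hT
  have hUV : IsAffineOpen (UV f x ⊤ ⊓ UV f (sx x) ⊤) := by
    have h1 := W12_eq (f := f) (x := x) ⊤
    change UV f x ⊤ ⊓ UV f (sx x) ⊤ = _ at h1
    rw [h1]
    exact hU.basicOpen _
  have hcov : UV f x ⊤ ⊔ UV f (sx x) ⊤ = ⊤ := by
    rw [eq_top_iff]
    intro t _
    rcases h.mem_gl t with h1 | h1
    · exact Or.inl ⟨h1, trivial⟩
    · exact Or.inr ⟨h1, trivial⟩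
  rcases Nat.lt_or_ge 1 n with h1 | h1
  · exact Groth.Agent.CurvesC.TwoAffine.subsingleton_of_two_le hU hV hUV hcov M hM n h1
  obtain rfl : n = 1 := by omega
  refine Groth.Agent.CurvesC.TwoAffine.subsingleton_one hU hV hcov M hM fun z => ?_
  obtain ⟨α, hα⟩ := he.exists_eq z
  obtain ⟨a, b, hab⟩ := exists_split h hT d α
  refine ⟨a • res M le_top e₁, -(b • res M le_top e₂), ?_⟩
  have e1 : res M (inf_le_left : W12 f x ⊤ ≤ UV f x ⊤)
      (a • res M le_top e₁) = ores (inf_le_left : W12 f x ⊤ ≤ UV f x ⊤) a • res M (le_top : W12 f x ⊤ ≤ ⊤) e₁ := by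
    rw [res_smul, res_res]
  have e2 : res M (inf_le_right : W12 f x ⊤ ≤ UV f (sx x) ⊤)
      (-(b • res M le_top e₂)) =
        -(ores (inf_le_right : W12 f x ⊤ ≤ UV f (sx x) ⊤) b • res M (le_top : W12 f x ⊤ ≤ ⊤) e₂) := by
    rw [map_neg]
    congr 1
    rw [res_smul, res_res]
  refine (congrArg₂ (· - ·) e1 e2).trans ?_
  rw [sub_neg_eq_add, h12, smul_smul, ← add_smul, hα, hab]
  congr 1
  ring

end Split

section KField

variable (Ω : Type u) [Field Ω] {C : Scheme.{u}} {q : C ⟶ Spec (CommRingCat.of Ω)}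
  {c : Fin 5 → Γ(Spec (CommRingCat.of Ω), ⊤)} {L : C.Modules} {x : Fin 3 → Γ(L, ⊤)} (h : IsCon c q L x)

include h

theorem subsingleton_L (n : ℕ) (hn : 1 ≤ n) : Subsingleton (Coh.HH C L n) := by
  have hc := K949.ConB.cd_of_isCon h
  refine subsingleton_of_split hc (isAffineOpen_top _) L
    (Groth.Agent.Ega2.QCohLocal.isQCoh_of_isInvertible (K398.ConGen.isInvertible_of_isCon h)) 1 (x 1) (x 2)
    (isGen_x1 (inf_le_left.trans inf_le_left)) ?_ n hn
  rw [pow_one]
  exact res_x2' _

theorem subsingleton_O (n : ℕ) (hn : 1 ≤ n) : Subsingleton (Coh.HH C (Coh.structureModule C) n) := by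
  have hc := K949.ConB.cd_of_isCon h
  refine subsingleton_of_split hc (isAffineOpen_top _) _
    (Groth.Agent.Ega2.QCohLocal.isQCoh_structureModule C) 0 (one ⊤) (one ⊤) ?_ ?_ n hn
  · rw [res_one]
    exact isGen_one _
  · rw [pow_zero, one_smul]

omit h in
open Groth.Agent.CurvesB.HZero in
/-- A family of sections through which each section is a combination in a unique way is a basis. -/
theorem finrank_eq_of_unique {X : Scheme.{u}} {p : X ⟶ Spec (CommRingCat.of Ω)} {M : X.Modules} {r : ℕ}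
    (y : Fin r → Γ(M, ⊤))
    (hy : ∀ s : Γ(M, ⊤), ∃! a : Fin r → Γ(Spec (CommRingCat.of Ω), ⊤), s = ∑ i, (p.appTop (a i)) • y i) :
    letI : X.Over (Spec (CommRingCat.of Ω)) := ⟨p⟩
    Module.finrank Ω (Coh.HH X M 0) = r := by
  let _ : X.Over (Spec (CommRingCat.of Ω)) := ⟨p⟩
  let F : (Fin r → Ω) →ₗ[Ω] Coh.HH X M 0 :=
    { toFun := fun a => ∑ i, a i • (equivAdd M).symm (y i)
      map_add' := fun a b => by
        simp only [Pi.add_apply, add_smul, Finset.sum_add_distrib]
      map_smul' := fun a b => by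
        simp only [Pi.smul_apply, smul_eq_mul, mul_smul, Finset.smul_sum, RingHom.id_apply] }
  have hF : ∀ a, equivAdd M (F a) = ∑ i, (p.appTop (io Ω (a i))) • y i := by
    intro a
    change equivAdd M (∑ i, a i • (equivAdd M).symm (y i)) = _
    rw [map_sum]
    refine Finset.sum_congr rfl fun i _ => ?_
    rw [equivAdd_smul_over, AddEquiv.apply_symm_apply]
    rfl
  have hbij : Function.Bijective F := by
    constructor
    · intro a b hab
      have h1 := congrArg (equivAdd M) hab
      rw [hF, hF] at h1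
      have h2 := (hy _).unique (y₁ := fun i => io Ω (a i)) (y₂ := fun i => io Ω (b i)) rfl h1
      funext i
      exact (io_bijective Ω).1 (congrFun h2 i)
    · intro z
      obtain ⟨a, ha, -⟩ := hy (equivAdd M z)
      choose b hb using fun i => (io_bijective Ω).2 (a i)
      refine ⟨b, (equivAdd M).injective ?_⟩
      rw [hF, ha]
      refine Finset.sum_congr rfl fun i _ => ?_
      rw [hb]
  have h1 := (LinearEquiv.ofBijective F hbij).finrank_eq
  rw [← h1, Module.finrank_fin_fun]

omit h in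
theorem euler_of_subsingleton {X : Scheme.{u}} [X.Over (Spec (CommRingCat.of Ω))] {M : X.Modules}
    (hM : ∀ n, 1 ≤ n → Subsingleton (Coh.HH X M n)) :
    Curv2.euler Ω X M = Module.finrank Ω (Coh.HH X M 0) := by
  rw [Curv2.euler, finsum_eq_single _ 0]
  · simp
  · intro n hn
    have := hM n (Nat.one_le_iff_ne_zero.2 hn)
    rw [Module.finrank_zero_of_subsingleton]
    simp

theorem finrank_L : letI : C.Over (Spec (CommRingCat.of Ω)) := ⟨q⟩; Module.finrank Ω (Coh.HH C L 0) = 3 :=
  finrank_eq_of_unique Ω x (K949.ConB.existsUnique_sec h)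

theorem finrank_O : letI : C.Over (Spec (CommRingCat.of Ω)) := ⟨q⟩
    Module.finrank Ω (Coh.HH C (Coh.structureModule C) 0) = 1 := by
  refine finrank_eq_of_unique Ω (p := q) (fun _ : Fin 1 => one ⊤) fun s => ?_
  obtain ⟨b, hb⟩ := (isGen_one (⊤ : C.Opens)).exists_eq s
  obtain ⟨a, rfl⟩ := (K949.ConB.appTop_bijective h).2 b
  refine ⟨fun _ => a, ?_, fun a' ha' => ?_⟩
  · change s = ∑ i : Fin 1, (q.appTop a) • one ⊤
    rw [Fin.sum_univ_one, hb]
  · funext i
    rw [Subsingleton.elim i 0]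
    apply (K949.ConB.appTop_bijective h).1
    apply (isGen_one (⊤ : C.Opens)).ext
    change s = ∑ i : Fin 1, (q.appTop (a' i)) • one ⊤ at ha'
    rw [Fin.sum_univ_one] at ha'
    rw [← ha', hb]

/-- A plane conic has genus zero. -/
theorem genus_eq_zero : letI : C.Over (Spec (CommRingCat.of Ω)) := ⟨q⟩; Curv2.genus Ω C = 0 := by
  let _ : C.Over (Spec (CommRingCat.of Ω)) := ⟨q⟩
  have := subsingleton_O Ω h 1 le_rfl
  exact Module.finrank_zero_of_subsingleton

/-- Node K5b: the degree of `O(1)` on a plane conic. -/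
theorem deg_eq_two : letI : C.Over (Spec (CommRingCat.of Ω)) := ⟨q⟩; Curv2.deg Ω C L 1 = 2 := by
  let _ : C.Over (Spec (CommRingCat.of Ω)) := ⟨q⟩
  have h1 := finrank_L Ω h
  have h2 := finrank_O Ω h
  rw [Curv2.deg, euler_of_subsingleton Ω (subsingleton_L Ω h), euler_of_subsingleton Ω (subsingleton_O Ω h)]
  change Module.finrank Ω (Coh.HH C L 0) = 3 at h1
  change Module.finrank Ω (Coh.HH C (Coh.structureModule C) 0) = 1 at h2
  rw [h1, h2]
  norm_num

end KField

end K398.ConEuler
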