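import Groth.Agent.Fano.K398.ConD
import Groth.Agent.Fano.K876.ConC

/-!
# Families of maps from regular pairs are stable families of degree two (CON-D, node K7b)
-/

set_option autoImplicit false

universe u

open CategoryTheory CategoryTheory.Limits AlgebraicGeometry TopologicalSpace

namespace K398.ConFam

open K390.PnSec Groth.Agent.Fdesc.LocGen Groth.Agent.Dix.ProjProper
open K188.LineDef K745.ConDef

variable {k : Type u} [Field k] {n : ℕ}

/-- Node K7b: a regular pair `(c, φ)` defines a stable family of maps of degree two. -/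
theorem isStableMapFam [CharZero k] {T C : Scheme.{u}} (qT : T ⟶ Spec (CommRingCat.of k))
    {c : Fin 5 → Γ(T, ⊤)} {f : C ⟶ T} {L : C.Modules} {x : Fin 3 → Γ(L, ⊤)} (h : IsCon c f L x)
    (φ : Fin (n + 1) → Fin 3 → Γ(T, ⊤)) (hr : Reg c φ) (μ : C ⟶ CohB1.ProjSpace n k)
    (_hμ : μ ≫ CohB1.ProjSpace.toSpec n k = f ≫ qT) (hs : GivenBy μ L (msec f x φ)) :
    StMap.IsStableMapFam f (Fin.elim0 : Fin 0 → (T ⟶ C)) (fun i => i.elim0) μ 0 ∧
      StMap.IsFibDeg f μ (O1 n k) 2 :=
  K398.ConD.isStableMapFam_of_K5 qT h φ hr μ hs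
    (fun Ω _ _ _ q c _ x h _ hc p => K876.ConC.isPrestablePtd Ω q c x h hc p)
    (fun Ω _ _ _ q c _ x h => K876.ConC.deg_eq_two Ω q c x h)

end K398.ConFam
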