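import Groth.Agent.Fano.K398.ConComp
import Groth.Agent.Fano.K123.ConA
import Groth.Agent.VBCurve.K708.Deg

/-!
# Families of maps from regular pairs are stable (CON-D, node K7b), from the structure of conics

* `exists_disc3`: on a geometric fibre of a regular pair the conic has rank at least two;
* `isStableMapFam_of`: node K7b from nodes K3, K4a, K4c, K5a, K5b.
-/

set_option autoImplicit false

universe u

open CategoryTheory CategoryTheory.Limits AlgebraicGeometry TopologicalSpace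

namespace K398.ConStab

open K390.PnSec Groth.Agent.Fdesc.LocGen Groth.Agent.Dix.ProjProper
open Groth.Agent.Ega2.H295.PnUniq Groth.Agent.Ega2.H295.PnCoord
open K188.LineDef K188.MapP1 K188.LinFun K745.ConDef K398.ConAlg K123.Van K398.ConGen K398.ConComp

variable {k : Type u} [Field k] {n : ℕ}

/-- On a geometric point of the base of a regular pair the conic has rank at least two. -/
theorem exists_disc3 {T : Scheme.{u}} {c : Fin 5 → Γ(T, ⊤)} {φ : Fin (n + 1) → Fin 3 → Γ(T, ⊤)} (hr : Reg c φ)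
    {Ω : Type u} [Field Ω] (t : Spec (CommRingCat.of Ω) ⟶ T) :
    ∃ i, disc3 (fun j => t.appTop (c j)) i ≠ 0 := by
  have h1 := hr.ge (show t (IsLocalRing.closedPoint Ω) ∈ (⊤ : T.Opens) from trivial)
  rw [Opens.mem_iSup] at h1
  obtain ⟨i, hi⟩ := h1
  refine ⟨i.1, fun h0 => ?_⟩
  have h2 : t.appTop (regPoly c φ i) = 0 := by
    have h3 := regPoly_map t.appTop.hom c φ i
    refine h3.trans ?_
    change disc3 (fun j => t.appTop (c j)) i.1 * _ = 0
    rw [h0, zero_mul]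
  have h3 : t ⁻¹ᵁ T.basicOpen (regPoly c φ i) = (Spec (CommRingCat.of Ω)).basicOpen (t.appTop (regPoly c φ i)) :=
    Scheme.preimage_basicOpen t _
  have h4 : IsLocalRing.closedPoint Ω ∈ t ⁻¹ᵁ T.basicOpen (regPoly c φ i) := hi
  rw [h3, h2, Scheme.basicOpen_zero] at h4
  exact h4

/-- Node K7b, from the structure of conics. -/
theorem isStableMapFam_of [CharZero k] {T C : Scheme.{u}} (qT : T ⟶ Spec (CommRingCat.of k))
    {c : Fin 5 → Γ(T, ⊤)} {f : C ⟶ T} {L : C.Modules} {x : Fin 3 → Γ(L, ⊤)} (h : IsCon c f L x)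
    (φ : Fin (n + 1) → Fin 3 → Γ(T, ⊤)) (hr : Reg c φ) (μ : C ⟶ CohB1.ProjSpace n k)
    (hs : GivenBy μ L (msec f x φ))
    (K3 : Flat f ∧ IsProper f ∧ LocallyOfFinitePresentation f)
    (K4a : ∀ (Ω : Type u) [Field Ω] {C : Scheme.{u}} (q : C ⟶ Spec (CommRingCat.of Ω))
      (c : Fin 5 → Γ(Spec (CommRingCat.of Ω), ⊤)) {L : C.Modules} (x : Fin 3 → Γ(L, ⊤)) (_ : IsCon c q L x)
      (s : Γ(L, ⊤)), ∃! a : Fin 3 → Γ(Spec (CommRingCat.of Ω), ⊤), s = ∑ i, (q.appTop (a i)) • x i)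
    (K4c : ∀ (Ω : Type u) [Field Ω] {C : Scheme.{u}} (q : C ⟶ Spec (CommRingCat.of Ω))
      (c : Fin 5 → Γ(Spec (CommRingCat.of Ω), ⊤)) {L : C.Modules} (x : Fin 3 → Γ(L, ⊤)) (_ : IsCon c q L x),
      Function.Bijective q.appTop)
    (K5a : ∀ (Ω : Type u) [Field Ω] [IsAlgClosed Ω] {C : Scheme.{u}} (q : C ⟶ Spec (CommRingCat.of Ω))
      (c : Fin 5 → Γ(Spec (CommRingCat.of Ω), ⊤)) {L : C.Modules} (x : Fin 3 → Γ(L, ⊤)) (_ : IsCon c q L x)
      [NeZero (2 : Ω)] (_ : ∃ i, disc3 c i ≠ 0) (p : Fin 0 → C), StMap.IsPrestablePtd Ω C q 0 p)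
    (K5b : ∀ (Ω : Type u) [Field Ω] [IsAlgClosed Ω] {C : Scheme.{u}} (q : C ⟶ Spec (CommRingCat.of Ω))
      (c : Fin 5 → Γ(Spec (CommRingCat.of Ω), ⊤)) {L : C.Modules} (x : Fin 3 → Γ(L, ⊤)) (_ : IsCon c q L x),
      letI : C.Over (Spec (CommRingCat.of Ω)) := ⟨q⟩; Curv2.deg Ω C L 1 = 2) :
    StMap.IsStableMapFam f (Fin.elim0 : Fin 0 → (T ⟶ C)) (fun i => i.elim0) μ 0 ∧
      StMap.IsFibDeg f μ (O1 n k) 2 := by
  refine ⟨⟨K3.1, K3.2.1, K3.2.2, ?_⟩, ?_⟩
  · intro Ω _ _ t Xt i q hP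
    have hcon := K123.ConA.isCon_pullback h hP
    have hch : CharZero Ω := by
      have h1 : Function.Injective (Spec.preimage (t ≫ qT)).hom := (Spec.preimage (t ≫ qT)).hom.injective
      exact charZero_of_injective_ringHom h1
    have h2 : NeZero (2 : Ω) := ⟨two_ne_zero⟩
    have h4a := K4a Ω q _ _ hcon
    have h4c := K4c Ω q _ _ hcon
    have hK7 : ∀ E ∈ irreducibleComponents Xt, ¬ ((i ≫ μ) '' E).Subsingleton := fun E hE =>
      not_subsingleton_image_of hcon h4a h4c _ (hs.comp i) E hE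
    refine ⟨K5a Ω q _ _ hcon (exists_disc3 hr t) _, ?_, ?_⟩
    · intro E hE hsub
      exact (hK7 E hE.1 hsub).elim
    · intro hsub
      obtain ⟨y⟩ := nonempty_of_bijective h4c
      refine (hK7 _ (irreducibleComponent_mem_irreducibleComponents y) ?_).elim
      exact hsub.anti (Set.image_subset_range _ _)
  · intro Ω _ _ t Xt i q hP
    have hcon := K123.ConA.isCon_pullback h hP
    let : Xt.Over (Spec (CommRingCat.of Ω)) := ⟨q⟩
    obtain ⟨τ, -⟩ := hs.comp i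
    have h1 : Curv2.deg Ω Xt ((Scheme.Modules.pullback (i ≫ μ)).obj (O1 n k)) 1 =
        Curv2.deg Ω Xt ((Scheme.Modules.pullback i).obj L) 1 := K708.Deg.deg_iso Ω τ 1
    rw [h1]
    exact K5b Ω q _ _ hcon

end K398.ConStab
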